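import Groth.Agent.Lib.DerCat.ExactFun
import Mathlib.CategoryTheory.Triangulated.Yoneda
import Mathlib.CategoryTheory.Triangulated.Functor
import Mathlib.CategoryTheory.Adjunction.FullyFaithful

/-!
# The objects at which a triangulated functor is bijective on morphisms
-/

set_option autoImplicit false

open CategoryTheory CategoryTheory.Limits CategoryTheory.Pretriangulated Opposite

namespace Groth.Agent.H83.DQCohEquiv

universe v v₁ v₂ u₁ u₂

section

variable {C : Type u₁} [Category.{v₁} C] {D : Type u₂} [Category.{v₂} D] (Φ : C ⥤ D)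

/-- `Φ` is bijective on maps into `N`. -/
def Bij (N : C) : Prop := ∀ M : C, Function.Bijective fun f : M ⟶ N => Φ.map f

variable {Φ}

lemma Bij.of_iso {N N' : C} (e : N ≅ N') (h : Bij Φ N) : Bij Φ N' := fun M => by
  refine ⟨fun a b hab => ?_, fun g => ?_⟩
  · simp only at hab
    rw [← cancel_mono e.inv]
    exact (h M).1 (by simp [hab])
  · obtain ⟨f, hf⟩ := (h M).2 (g ≫ Φ.map e.inv)
    simp only at hf
    exact ⟨f ≫ e.hom, by simp [hf, ← Φ.map_comp]⟩

/-- A left adjoint with invertible counit is bijective on maps into the image of its right adjoint. -/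
lemma bij_of_adjunction {L : C ⥤ D} {R : D ⥤ C} (adj : L ⊣ R) [IsIso adj.counit] {W : D} {Y : C}
    (e : Y ≅ R.obj W) : Bij L Y := by
  refine Bij.of_iso e.symm fun M => ?_
  have key : ∀ f : M ⟶ R.obj W, L.map f = (adj.homEquiv M W).symm f ≫ inv (adj.counit.app W) := fun f => by
    rw [Adjunction.homEquiv_counit, Category.assoc, IsIso.hom_inv_id, Category.comp_id]
  refine ⟨fun a b hab => ?_, fun g => ⟨(adj.homEquiv M W) (g ≫ adj.counit.app W), ?_⟩⟩
  · simp only [key] at hab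
    exact (adj.homEquiv M W).symm.injective ((cancel_mono _).1 hab)
  · simp only [key, Equiv.symm_apply_apply, Category.assoc, IsIso.hom_inv_id, Category.comp_id]

end

section

variable {C : Type u₁} [Category.{v} C] [Preadditive C] [HasZeroObject C] [HasShift C ℤ]
  [∀ n : ℤ, (shiftFunctor C n).Additive] [Pretriangulated C]
  {D : Type u₂} [Category.{v} D] [Preadditive D] [HasZeroObject D] [HasShift D ℤ]
  [∀ n : ℤ, (shiftFunctor D n).Additive] [Pretriangulated D]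
  {Φ : C ⥤ D} [Φ.CommShift ℤ]

omit [HasZeroObject C] [∀ n : ℤ, (shiftFunctor C n).Additive] [Pretriangulated C]
  [HasZeroObject D] [∀ n : ℤ, (shiftFunctor D n).Additive] [Pretriangulated D] in
lemma Bij.shift {N : C} (h : Bij Φ N) (n : ℤ) : Bij Φ (N⟦n⟧) := fun M => by
  let M' := M⟦-n⟧
  let s : M'⟦n⟧ ≅ M := (shiftFunctorCompIsoId C (-n) n (by omega)).app M
  have key : ∀ a : M' ⟶ N, Φ.map (a⟦n⟧') =
      (Φ.commShiftIso n).hom.app M' ≫ (Φ.map a)⟦n⟧' ≫ (Φ.commShiftIso n).inv.app N := fun a => by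
    have := (Φ.commShiftIso n).hom.naturality a
    simp only [Functor.comp_map] at this
    rw [← reassoc_of% this, Iso.hom_inv_id_app]
    exact (Category.comp_id _).symm
  refine ⟨fun a b hab => ?_, fun g => ?_⟩
  · obtain ⟨a', ha⟩ := (shiftFunctor C n).map_surjective (s.hom ≫ a)
    obtain ⟨b', hb⟩ := (shiftFunctor C n).map_surjective (s.hom ≫ b)
    simp only at hab
    have h1 : Φ.map (a'⟦n⟧') = Φ.map (b'⟦n⟧') := by rw [ha, hb, Φ.map_comp, Φ.map_comp, hab]
    rw [key, key, cancel_epi, cancel_mono] at h1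
    rw [← cancel_epi s.hom, ← ha, ← hb, (h M').1 ((shiftFunctor D n).map_injective h1)]
  · obtain ⟨g', hg⟩ := (shiftFunctor D n).map_surjective
      ((Φ.commShiftIso n).inv.app M' ≫ Φ.map s.hom ≫ g ≫ (Φ.commShiftIso n).hom.app N)
    obtain ⟨a, ha⟩ := (h M').2 g'
    simp only at ha
    refine ⟨s.inv ≫ a⟦n⟧', ?_⟩
    simp only [Φ.map_comp, key, ha, hg, Category.assoc, Iso.hom_inv_id_app_assoc, Iso.hom_inv_id_app]
    simp [← Φ.map_comp_assoc]

variable [Φ.IsTriangulated]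

/-- Two out of three. -/
lemma Bij.ext₃ (T : Triangle C) (hT : T ∈ distTriang C) (h₁ : Bij Φ T.obj₁) (h₂ : Bij Φ T.obj₂) :
    Bij Φ T.obj₃ := fun M => by
  let F := preadditiveCoyoneda.obj (op M)
  let F' := Φ ⋙ preadditiveCoyoneda.obj (op (Φ.obj M))
  let t : F ⟶ F' :=
    { app := fun N => AddCommGrpCat.ofHom Φ.mapAddHom
      naturality := fun N N' f => by
        ext x
        exact Φ.map_comp x f }
  have hiff : ∀ N, IsIso (t.app N) ↔ Function.Bijective fun f : M ⟶ N => Φ.map f := fun N =>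
    (ConcreteCategory.isIso_iff_bijective (t.app N)).trans Iff.rfl
  have hF : Lib.DerCat.ExactFun.ExactOn F := fun T hT =>
    (preadditiveCoyoneda.obj (op M)).map_distinguished_exact T hT
  have hF' : Lib.DerCat.ExactFun.ExactOn F' := fun T hT =>
    (preadditiveCoyoneda.obj (op (Φ.obj M))).map_distinguished_exact _ (Φ.map_distinguished T hT)
  haveI := (hiff _).2 (h₁ M)
  haveI := (hiff _).2 (h₂ M)
  haveI := (hiff _).2 ((h₁.shift 1) M)
  haveI := (hiff _).2 ((h₂.shift 1) M)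
  exact (hiff _).1 (Lib.DerCat.ExactFun.isIso₃ hF hF' t T hT)

lemma Bij.ext₂ (T : Triangle C) (hT : T ∈ distTriang C) (h₁ : Bij Φ T.obj₁) (h₃ : Bij Φ T.obj₃) :
    Bij Φ T.obj₂ :=
  Bij.ext₃ _ (inv_rot_of_distTriang _ hT) (h₃.shift (-1)) h₁

lemma Bij.ext₁ (T : Triangle C) (hT : T ∈ distTriang C) (h₂ : Bij Φ T.obj₂) (h₃ : Bij Φ T.obj₃) :
    Bij Φ T.obj₁ :=
  Bij.ext₂ _ (inv_rot_of_distTriang _ hT) (h₃.shift (-1)) h₂

lemma Bij.of_isZero {N : C} (hN : IsZero N) : Bij Φ N := fun _ =>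
  ⟨fun a b _ => hN.eq_of_tgt a b, fun g => ⟨0, (Φ.map_isZero hN).eq_of_tgt _ g⟩⟩

variable [Φ.Full] [Φ.Faithful]

/-- The image of a fully faithful triangulated functor is closed under cones. -/
lemma mem_essImage_ext₃ (T : Triangle D) (hT : T ∈ distTriang D) (h₁ : Φ.essImage T.obj₁)
    (h₂ : Φ.essImage T.obj₂) : Φ.essImage T.obj₃ := by
  obtain ⟨A, ⟨a⟩⟩ := h₁
  obtain ⟨B, ⟨b⟩⟩ := h₂
  obtain ⟨f, hf⟩ := Φ.map_surjective (a.hom ≫ T.mor₁ ≫ b.inv)
  obtain ⟨Z, g, h, hZ⟩ := distinguished_cocone_triangle f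
  have hc : Φ.map f ≫ b.hom = a.hom ≫ T.mor₁ := by
    rw [hf, Category.assoc, Category.assoc, Iso.inv_hom_id, Category.comp_id]
  exact ⟨Z, ⟨Triangle.π₃.mapIso (isoTriangleOfIso₁₂ _ _ (Φ.map_distinguished _ hZ) hT a b hc)⟩⟩

omit [Φ.IsTriangulated] [Φ.Full] [Φ.Faithful] in
lemma mem_essImage_shift {K : D} (hK : Φ.essImage K) (n : ℤ) : Φ.essImage (K⟦n⟧) := by
  obtain ⟨A, ⟨a⟩⟩ := hK
  exact ⟨A⟦n⟧, ⟨(Φ.commShiftIso n).app A ≪≫ (shiftFunctor D n).mapIso a⟩⟩

lemma mem_essImage_ext₁ (T : Triangle D) (hT : T ∈ distTriang D) (h₂ : Φ.essImage T.obj₂)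
    (h₃ : Φ.essImage T.obj₃) : Φ.essImage T.obj₁ :=
  mem_essImage_ext₃ _ (inv_rot_of_distTriang _ (inv_rot_of_distTriang _ hT))
    (mem_essImage_shift h₂ (-1)) (mem_essImage_shift h₃ (-1))

end

end Groth.Agent.H83.DQCohEquiv
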