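import Mathlib
import Groth.Agent.H83.DQCohEquiv.Abstract
import Groth.Agent.H88.Hom.DerivedFF
import Groth.Agent.Lib.DerivedOX.OpenImm
import Groth.Agent.Lib.DerivedOX.AffinePush
import Groth.Agent.Lib.DerivedOX.RpushQCoh
import Groth.Agent.Lib.DerivedOX.QCohLocal
import Groth.Agent.Lib.DerivedOX.TildeEquiv
import Groth.Agent.Lib.DerivedOX.Exists
import Groth.Agent.Lib.ClSub.Basis
import Groth.Agent.Lib.QCoh.Pushforward

/-!
# `D(QCoh X)` and `D_QCoh(O_X)` along an affine open immersion `Spec R ⟶ X`
-/

set_option autoImplicit false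
set_option linter.style.haveILetI false
set_option linter.unusedSectionVars false

universe u

open CategoryTheory CategoryTheory.Limits AlgebraicGeometry Opposite CategoryTheory.Pretriangulated

attribute [local instance] HasDerivedCategory.standard

namespace Groth.Agent.H83.DQCohEquiv

variable {X : Scheme.{u}} {R : CommRingCat.{u}} (j : Spec R ⟶ X) [IsOpenImmersion j] [QuasiCompact j]

/-- Quasi-coherence. -/
abbrev qcP (X : Scheme.{u}) : ObjectProperty X.Modules := fun M => Coh.IsQCoh M

/-- The quasi-coherent modules. -/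
abbrev Qc (X : Scheme.{u}) : Type (u + 1) := ObjectProperty.FullSubcategory (qcP X)

/-- The inclusion. -/
abbrev incl (X : Scheme.{u}) : Qc X ⥤ X.Modules := ObjectProperty.ι (qcP X)

instance (M : Qc X) : M.obj.IsQuasicoherent := M.property

/-- Sections over the image of `j`, as an `R`-module. -/
noncomputable def rF : Qc X ⥤ ModuleCat.{u} R :=
  incl X ⋙ Scheme.Modules.restrictFunctor j ⋙ moduleSpecΓFunctor

/-- The direct image of `M~`. -/
noncomputable def pF : ModuleCat.{u} R ⥤ Qc X :=
  ObjectProperty.lift (qcP X) (tilde.functor R ⋙ Scheme.Modules.pushforward j) fun M =>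
    haveI : ((tilde.functor R).obj M).IsQuasicoherent := inferInstance
    Groth.Agent.Lib.QCoh.Pushforward.isQCoh_pushforward (f := j) (M := (tilde.functor R).obj M)

/-- On quasi-coherent modules restriction is the tilde of sections. -/
noncomputable def rTildeIso :
    incl X ⋙ Scheme.Modules.restrictFunctor j ≅ rF j ⋙ tilde.functor R :=
  haveI : IsIso (Functor.whiskerLeft (incl X ⋙ Scheme.Modules.restrictFunctor j)
      (tilde.adjunction (R := R)).counit) := by
    haveI : ∀ M, IsIso ((Functor.whiskerLeft (incl X ⋙ Scheme.Modules.restrictFunctor j)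
        (tilde.adjunction (R := R)).counit).app M) := fun M => by
      haveI : (M.obj.restrict j).IsQuasicoherent := by
        haveI := M.property
        infer_instance
      exact inferInstanceAs (IsIso (M.obj.restrict j).fromTildeΓ)
    exact NatIso.isIso_of_isIso_app _
  (asIso (Functor.whiskerLeft (incl X ⋙ Scheme.Modules.restrictFunctor j)
    (tilde.adjunction (R := R)).counit)).symm

/-- `rF ⊣ pF`. -/
noncomputable def rpAdj : rF j ⊣ pF j :=
  (Scheme.Modules.restrictAdjunction j).restrictFullyFaithful
    (ObjectProperty.fullyFaithfulι (qcP X)) (tilde.fullyFaithfulFunctor (R := R))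
    (rTildeIso j) (Iso.refl _)

noncomputable def pFInclIso : pF j ⋙ incl X ≅ tilde.functor R ⋙ Scheme.Modules.pushforward j :=
  Iso.refl _

instance isIso_rpAdj_counit : IsIso (rpAdj j).counit := by
  haveI : (pF j ⋙ incl X).Full :=
    inferInstanceAs (tilde.functor R ⋙ Scheme.Modules.pushforward j).Full
  haveI : (pF j ⋙ incl X).Faithful :=
    inferInstanceAs (tilde.functor R ⋙ Scheme.Modules.pushforward j).Faithful
  haveI : (pF j).Full := Functor.Full.of_comp_faithful (pF j) (incl X)
  haveI : (pF j).Faithful := Functor.Faithful.of_comp (pF j) (incl X)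
  infer_instance

variable [ObjectProperty.ContainsZero (qcP X)] [ObjectProperty.IsClosedUnderKernels (qcP X)]
  [ObjectProperty.IsClosedUnderCokernels (qcP X)] [ObjectProperty.IsClosedUnderFiniteProducts (qcP X)]
  [PreservesFiniteLimits (incl X)] [PreservesFiniteColimits (incl X)]

instance : (rF j).Additive := by
  haveI := (tilde.adjunction (R := R)).right_adjoint_additive
  unfold rF; infer_instance

instance : (pF j).Additive := (rpAdj j).right_adjoint_additive

instance rF_preservesFiniteColimits : PreservesFiniteColimits (rF j) := by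
  haveI := (rpAdj j).leftAdjoint_preservesColimits
  infer_instance

instance rF_preservesFiniteLimits : PreservesFiniteLimits (rF j) := by
  haveI : PreservesFiniteLimits (tilde.functor R) :=
    Groth.Agent.Lib.QCoh.Tilde.tildeFunctor_preservesFiniteLimits ..
  refine ⟨fun K _ _ => ?_⟩
  haveI : PreservesLimitsOfShape K (rF j ⋙ tilde.functor R) :=
    preservesLimitsOfShape_of_natIso (rTildeIso j)
  exact preservesLimitsOfShape_of_reflects_of_preserves (rF j) (tilde.functor R)

instance pF_preservesFiniteLimits : PreservesFiniteLimits (pF j) := by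
  haveI := (rpAdj j).rightAdjoint_preservesLimits
  infer_instance

section AffineEpi

variable [IsAffineHom j]

instance pF_preservesEpimorphisms : (pF j).PreservesEpimorphisms where
  preserves {M N} g _ := by
    haveI : (incl X).Faithful := inferInstance
    refine (incl X).epi_of_epi_map ?_
    refine Groth.Agent.Lib.ClSub.Basis.epi_of_surjective_affine _ fun V => ?_
    haveI : Epi ((tilde.functor R).map g) := inferInstance
    exact Groth.Agent.Lib.QCoh.Closure.sections_surjective_of_epi ((tilde.functor R).map g)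
      (V.2.preimage j)

instance pF_preservesFiniteColimits : PreservesFiniteColimits (pF j) := by
  have h : ∀ S : ShortComplex (ModuleCat.{u} R), S.ShortExact → (S.map (pF j)).ShortExact := by
    intro S hS
    haveI := hS.mono_f
    haveI := hS.epi_g
    have h0 : ∀ S : ShortComplex (ModuleCat.{u} R), S.ShortExact →
        (S.map (pF j)).Exact ∧ Mono ((pF j).map S.f) :=
      (((pF j).preservesFiniteLimits_tfae).out 3 0).1 (pF_preservesFiniteLimits j)
    obtain ⟨h1, h2⟩ : (S.map (pF j)).Exact ∧ Mono ((pF j).map S.f) :=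
      h0 S hS
    haveI : Mono (S.map (pF j)).f := h2
    haveI : Epi (S.map (pF j)).g := inferInstanceAs (Epi ((pF j).map S.g))
    exact ShortComplex.ShortExact.mk h1
  have h' : PreservesFiniteLimits (pF j) ∧ PreservesFiniteColimits (pF j) :=
    ((pF j).exact_tfae.out 0 3).1 h
  exact h'.2

end AffineEpi

section CompIso

variable {A B B' C : Type*} [Category A] [Abelian A] [HasDerivedCategory A]
  [Category B] [Abelian B] [HasDerivedCategory B] [Category B'] [Abelian B'] [HasDerivedCategory B']
  [Category C] [Abelian C] [HasDerivedCategory C]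
  (F : A ⥤ B) (G : B ⥤ C) (F' : A ⥤ B') (G' : B' ⥤ C)
  [F.Additive] [PreservesFiniteLimits F] [PreservesFiniteColimits F]
  [G.Additive] [PreservesFiniteLimits G] [PreservesFiniteColimits G]
  [F'.Additive] [PreservesFiniteLimits F'] [PreservesFiniteColimits F']
  [G'.Additive] [PreservesFiniteLimits G'] [PreservesFiniteColimits G']

/-- A commutative square of exact functors gives one of derived categories. -/
noncomputable def squareD (e : F ⋙ G ≅ F' ⋙ G') :
    F.mapDerivedCategory ⋙ G.mapDerivedCategory ≅ F'.mapDerivedCategory ⋙ G'.mapDerivedCategory :=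
  let W := HomologicalComplex.quasiIso A (ComplexShape.up ℤ)
  letI : Localization.Lifting DerivedCategory.Q W
      (DerivedCategory.Q ⋙ F.mapDerivedCategory ⋙ G.mapDerivedCategory)
      (F.mapDerivedCategory ⋙ G.mapDerivedCategory) := ⟨Iso.refl _⟩
  letI : Localization.Lifting DerivedCategory.Q W
      (DerivedCategory.Q ⋙ F'.mapDerivedCategory ⋙ G'.mapDerivedCategory)
      (F'.mapDerivedCategory ⋙ G'.mapDerivedCategory) := ⟨Iso.refl _⟩
  let eC : F.mapHomologicalComplex (ComplexShape.up ℤ) ⋙ G.mapHomologicalComplex (ComplexShape.up ℤ) ≅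
      F'.mapHomologicalComplex (ComplexShape.up ℤ) ⋙ G'.mapHomologicalComplex (ComplexShape.up ℤ) :=
    NatIso.ofComponents (fun K => HomologicalComplex.Hom.isoOfComponents (fun n => e.app (K.X n))
      (fun a b _ => (e.hom.naturality (K.d a b)).symm))
      (fun φ => by ext n; exact e.hom.naturality (φ.f n))
  Localization.liftNatIso DerivedCategory.Q W _ _ _ _
    ((Functor.associator _ _ _).symm ≪≫ Functor.isoWhiskerRight F.mapDerivedCategoryFactors _ ≪≫
      Functor.associator _ _ _ ≪≫ Functor.isoWhiskerLeft _ G.mapDerivedCategoryFactors ≪≫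
      (Functor.associator _ _ _).symm ≪≫ Functor.isoWhiskerRight eC _ ≪≫ Functor.associator _ _ _ ≪≫
      Functor.isoWhiskerLeft _ G'.mapDerivedCategoryFactors.symm ≪≫ (Functor.associator _ _ _).symm ≪≫
      Functor.isoWhiskerRight F'.mapDerivedCategoryFactors.symm _ ≪≫ Functor.associator _ _ _)

end CompIso

instance : PreservesFiniteLimits (tilde.functor R) :=
  Groth.Agent.Lib.QCoh.Tilde.tildeFunctor_preservesFiniteLimits ..

instance : (tilde.functor R).Additive := (tilde.adjunction (R := R)).left_adjoint_additive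

instance : @Functor.Additive (ModuleCat.{u} R) (Spec R).Modules _ _ _ _ (tilde.functor R) :=
  (tilde.adjunction (R := R)).left_adjoint_additive

instance : @PreservesFiniteLimits (ModuleCat.{u} R) _ (Spec R).Modules _ (tilde.functor R) :=
  Groth.Agent.Lib.QCoh.Tilde.tildeFunctor_preservesFiniteLimits ..

instance : @PreservesFiniteColimits (ModuleCat.{u} R) _ (Spec R).Modules _ (tilde.functor R) := by
  haveI := (tilde.adjunction (R := R)).leftAdjoint_preservesColimits
  infer_instance

/-- The functor `D(QCoh X) ⥤ D(O_X)`. -/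
noncomputable abbrev ΦX (X : Scheme.{u}) [ObjectProperty.ContainsZero (qcP X)]
    [ObjectProperty.IsClosedUnderKernels (qcP X)] [ObjectProperty.IsClosedUnderCokernels (qcP X)]
    [ObjectProperty.IsClosedUnderFiniteProducts (qcP X)]
    [PreservesFiniteLimits (incl X)] [PreservesFiniteColimits (incl X)] :
    DerivedCategory (Qc X) ⥤ DCoh.D X :=
  (incl X).mapDerivedCategory

/-- Restriction on derived categories. -/
noncomputable def θIso :
    ΦX X ⋙ DCoh.restrictD j ≅ (rF j).mapDerivedCategory ⋙ DCoh.tildeD R :=
  squareD (incl X) (Scheme.Modules.restrictFunctor j) (rF j) (tilde.functor R) (rTildeIso j)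

variable [DCoh.HasRpush j]

section Affine

variable [IsAffineHom j]

theorem exists_Rpush_iso (N : DerivedCategory (ModuleCat.{u} R)) :
    ∃ W : DCoh.D (Spec R), Nonempty ((ΦX X).obj ((pF j).mapDerivedCategory.obj N) ≅
      (DCoh.Rpush j).obj W) := by
  obtain ⟨E, ⟨eE⟩⟩ : ∃ E, Nonempty (DerivedCategory.Q.obj E ≅ N) :=
    ⟨_, ⟨DerivedCategory.Q.objObjPreimageIso N⟩⟩
  let tE := ((tilde.functor R).mapHomologicalComplex (ComplexShape.up ℤ)).obj E
  have := Groth.Agent.Lib.DerivedOX.AffinePush.isIso_unit j tE
    (fun n => (inferInstance : (tilde (E.X n)).IsQuasicoherent))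
  refine ⟨DerivedCategory.Qh.obj ((HomotopyCategory.quotient _ _).obj tE), ⟨?_⟩⟩
  let e1 : ((incl X).mapHomologicalComplex (ComplexShape.up ℤ)).obj
      (((pF j).mapHomologicalComplex (ComplexShape.up ℤ)).obj E) ≅
      ((Scheme.Modules.pushforward j).mapHomologicalComplex (ComplexShape.up ℤ)).obj tE :=
    HomologicalComplex.Hom.isoOfComponents (fun n => (pFInclIso j).app (E.X n))
      (fun a b _ => ((pFInclIso j).hom.naturality (E.d a b)).symm)
  exact (ΦX X).mapIso ((pF j).mapDerivedCategory.mapIso eE.symm ≪≫
      (pF j).mapDerivedCategoryFactors.app E) ≪≫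
    (incl X).mapDerivedCategoryFactors.app _ ≪≫ DerivedCategory.Q.mapIso e1 ≪≫
    ((DerivedCategory.quotientCompQhIso X.Modules).app _).symm ≪≫
    DerivedCategory.Qh.mapIso
      (((Scheme.Modules.pushforward j).mapHomotopyCategoryFactors (ComplexShape.up ℤ)).app tE).symm ≪≫
    asIso (((DCoh.pushKh j).totalRightDerivedUnit DerivedCategory.Qh
      (HomotopyCategory.quasiIso (Spec R).Modules (ComplexShape.up ℤ))).app
      ((HomotopyCategory.quotient (Spec R).Modules (ComplexShape.up ℤ)).obj tE))

/-- Bijectivity at direct images. -/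
theorem bij_pF (N : DerivedCategory (ModuleCat.{u} R)) :
    Bij (ΦX X) ((pF j).mapDerivedCategory.obj N) := fun M => by
  haveI : IsIso (Groth.Agent.H88.Hom.DerivedFF.adjD (rpAdj j)).counit :=
    Groth.Agent.H88.Hom.DerivedFF.isIso_counit (rpAdj j) inferInstance
  haveI := Groth.Agent.Lib.DerivedOX.OpenImm.isIso_restrictPushAdj_counit j
  haveI := Groth.Agent.Lib.DerivedOX.TildeEquiv.full R
  haveI := Groth.Agent.Lib.DerivedOX.TildeEquiv.faithful R
  obtain ⟨W, ⟨e⟩⟩ := exists_Rpush_iso j N
  have hres := bij_of_adjunction (Groth.Agent.Lib.DerivedOX.OpenImm.restrictPushAdj j) e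
    ((ΦX X).obj M)
  have hr := bij_of_adjunction (Groth.Agent.H88.Hom.DerivedFF.adjD (rpAdj j))
    (Iso.refl ((pF j).mapDerivedCategory.obj N)) M
  have htot : Function.Bijective fun f : M ⟶ (pF j).mapDerivedCategory.obj N =>
      (DCoh.restrictD j).map ((ΦX X).map f) := by
    have h : (fun f : M ⟶ (pF j).mapDerivedCategory.obj N => (DCoh.restrictD j).map ((ΦX X).map f)) =
        (Iso.homCongr ((θIso j).symm.app M) ((θIso j).symm.app _)) ∘
          (fun g => (DCoh.tildeD R).map g) ∘ (fun f => (rF j).mapDerivedCategory.map f) := by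
      funext f
      simp only [Function.comp, Iso.homCongr_apply, Iso.app_hom, Iso.app_inv, Iso.symm_hom, Iso.symm_inv]
      exact (NatIso.naturality_2 (θIso j) f).symm
    rw [h]
    exact (Equiv.bijective _).comp ((Functor.FullyFaithful.ofFullyFaithful _).map_bijective _ _ |>.comp hr)
  exact ⟨fun a b hab => htot.1 (congrArg (DCoh.restrictD j).map hab), fun g => by
    obtain ⟨f, hf⟩ := htot.2 ((DCoh.restrictD j).map g)
    exact ⟨f, hres.1 hf⟩⟩

end Affine

/-- Vanishing on an open, for a module. -/
def Van (V : X.Opens) (M : X.Modules) : Prop := ∀ W : X.Opens, W ≤ V → Subsingleton Γ(M, W)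

lemma Van.of_iso {V : X.Opens} {M N : X.Modules} (e : M ≅ N) (h : Van V M) : Van V N := fun W hW => by
  haveI : Subsingleton (((Scheme.Modules.toPresheaf X).obj M).obj (op W)) := h W hW
  exact (((Scheme.Modules.toPresheaf X).mapIso e).app (op W)).addCommGroupIsoToAddEquiv.symm.toEquiv.subsingleton

lemma isZero_of_subsingleton {Y : Scheme.{u}} (M : Y.Modules) (h : ∀ W, Subsingleton Γ(M, W)) :
    IsZero M := by
  rw [IsZero.iff_id_eq_zero]
  refine Scheme.Modules.hom_ext _ _ fun W => ?_
  ext x
  exact @Subsingleton.elim _ (h W) _ _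

lemma subsingleton_of_isZero {Y : Scheme.{u}} {M : Y.Modules} (h : IsZero M) (W : Y.Opens) :
    Subsingleton Γ(M, W) :=
  AddCommGrpCat.subsingleton_of_isZero
    (((Scheme.Modules.toPresheaf Y).map_isZero h).obj (op W))

/-- The functor `rF` detects vanishing on the image. -/
theorem isZero_rF_iff (M : Qc X) : IsZero ((rF j).obj M) ↔ Van j.opensRange M.obj := by
  constructor
  · intro h W hW
    have h1 : IsZero (M.obj.restrict j) :=
      ((tilde.functor R).map_isZero h).of_iso ((rTildeIso j).app M)
    have h2 := subsingleton_of_isZero h1 (j ⁻¹ᵁ W)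
    have e : j ''ᵁ j ⁻¹ᵁ W = W := by
      rw [Scheme.Hom.image_preimage_eq_opensRange_inf, inf_eq_right]
      exact hW
    have h3 : Subsingleton Γ(M.obj, j ''ᵁ j ⁻¹ᵁ W) := h2
    rwa [e] at h3
  · intro h
    refine IsZero.of_full_of_faithful_of_isZero (tilde.functor R) _ ?_
    refine IsZero.of_iso ?_ ((rTildeIso j).app M).symm
    refine isZero_of_subsingleton _ fun W => ?_
    exact h (j ''ᵁ W) (Scheme.Hom.image_le_opensRange _ _)

/-- Direct images preserve vanishing. -/
theorem van_pF (V : X.Opens) (N : ModuleCat.{u} R) (M : X.Modules)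
    (e : (tilde.functor R).obj N ≅ M.restrict j) (h : Van V M) : Van V ((pF j).obj N).obj := by
  refine Van.of_iso ((Scheme.Modules.pushforward j).mapIso e).symm fun W hW => ?_
  exact h (j ''ᵁ j ⁻¹ᵁ W) (le_trans (by
    rw [Scheme.Hom.image_preimage_eq_opensRange_inf]
    exact inf_le_right) hW)

end Groth.Agent.H83.DQCohEquiv
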