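import Mathlib
import Groth.Agent.H83.DQCohEquiv.Local
import Groth.Agent.Lib.Perfect.Coherent

/-!
# `D(QCoh X) ≅ D_QCoh(O_X)` for quasi-compact `X` with affine diagonal
-/

set_option autoImplicit false
set_option linter.style.haveILetI false
set_option linter.unusedSectionVars false

universe u

open CategoryTheory CategoryTheory.Limits AlgebraicGeometry Opposite CategoryTheory.Pretriangulated

attribute [local instance] HasDerivedCategory.standard

namespace Groth.Agent.H83.DQCohEquiv

variable (X : Scheme.{u}) [ObjectProperty.ContainsZero (qcP X)]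
  [ObjectProperty.IsClosedUnderKernels (qcP X)] [ObjectProperty.IsClosedUnderCokernels (qcP X)]
  [ObjectProperty.IsClosedUnderFiniteProducts (qcP X)]
  [PreservesFiniteLimits (incl X)] [PreservesFiniteColimits (incl X)]

lemma isAffineHom_fromSpec {V : X.Opens} (hV : IsAffineOpen V)
    (hdiag : ∀ U V : X.Opens, IsAffineOpen U → IsAffineOpen V → IsAffineOpen (U ⊓ V)) :
    IsAffineHom hV.fromSpec where
  isAffine_preimage U hU := by
    rw [← hV.fromSpec.isAffineOpen_iff_of_isOpenImmersion,
      Scheme.Hom.image_preimage_eq_opensRange_inf]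
    exact hdiag _ _ (by rw [IsAffineOpen.opensRange_fromSpec]; exact hV) hU

variable (hdiag : ∀ U V : X.Opens, IsAffineOpen U → IsAffineOpen V → IsAffineOpen (U ⊓ V))

/-- The affine chart. -/
noncomputable abbrev fs (V : X.affineOpens) : Spec Γ(X, V.1) ⟶ X :=
  IsAffineOpen.fromSpec (U := V.1) V.2

instance isOpenImmersion_fs (V : X.affineOpens) : IsOpenImmersion (fs X V) :=
  (V.2 : IsAffineOpen V.1).isOpenImmersion_fromSpec

lemma opensRange_fs (V : X.affineOpens) : (fs X V).opensRange = V.1 :=
  IsAffineOpen.opensRange_fromSpec V.2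

lemma isZero_of_van {s : Finset X.affineOpens} (hs : (⊤ : X.Opens) ≤ ⨆ V ∈ s, V.1) {M : X.Modules}
    (h : ∀ V ∈ s, Van V.1 M) : IsZero M := by
  refine isZero_of_subsingleton M fun W => subsingleton_of_forall_eq 0 fun x => ?_
  refine TopCat.Presheaf.section_ext ⟨M.presheaf, M.isSheaf⟩ W x 0 fun y hy => ?_
  obtain ⟨V, hVy⟩ := TopologicalSpace.Opens.mem_iSup.1 (hs (Set.mem_univ y))
  obtain ⟨hVs, hyV⟩ := TopologicalSpace.Opens.mem_iSup.1 hVy
  haveI := h V hVs (W ⊓ V.1) inf_le_right
  change M.presheaf.germ W y hy x = M.presheaf.germ W y hy 0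
  rw [← TopCat.Presheaf.germ_res_apply M.presheaf (homOfLE inf_le_left : W ⊓ V.1 ⟶ W) y ⟨hy, hyV⟩ x,
    ← TopCat.Presheaf.germ_res_apply M.presheaf (homOfLE inf_le_left : W ⊓ V.1 ⟶ W) y ⟨hy, hyV⟩ 0]
  exact congrArg _ (Subsingleton.elim _ _)

include hdiag in
set_option maxHeartbeats 1000000 in
/-- Devissage for complexes of quasi-coherent modules. -/
theorem bij_of_van [DecidableEq X.affineOpens] (s t : Finset X.affineOpens)
    (hs : (⊤ : X.Opens) ≤ ⨆ V ∈ s, V.1) :
    ∀ d : Finset X.affineOpens, d ∪ t = s → ∀ K : CochainComplex (Qc X) ℤ,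
      (∀ n, ∀ V ∈ d, Van V.1 (K.X n).obj) → Bij (ΦX X) (DerivedCategory.Q.obj K) := by
  induction t using Finset.induction with
  | empty =>
    intro d hd K hK
    rw [Finset.union_empty] at hd
    subst hd
    have hz : IsZero K := by
      rw [IsZero.iff_id_eq_zero]
      ext n : 1
      exact (IsZero.of_full_of_faithful_of_isZero (incl X) _
        (isZero_of_van X hs (hK n))).eq_of_src _ _
    exact Bij.of_isZero (DerivedCategory.Q.map_isZero hz)
  | insert V t _ ih =>
    intro d hd K hK
    have hd' : insert V d ∪ t = s := by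
      rw [← hd, Finset.insert_union, Finset.union_insert]
    let j := (fs X V)
    haveI : IsOpenImmersion j := isOpenImmersion_fs X V
    haveI : IsAffineHom j := isAffineHom_fromSpec X V.2 hdiag
    haveI := Groth.Agent.Lib.DerivedOX.Exists.hasRpush j
    let rC := (rF j).mapHomologicalComplex (ComplexShape.up ℤ)
    let pC := (pF j).mapHomologicalComplex (ComplexShape.up ℤ)
    let adjc := Groth.Agent.Lib.DerivedAdj.Exact.adjCx (rpAdj j)
    let η : K ⟶ pC.obj (rC.obj K) := adjc.unit.app K
    have hB : Bij (ΦX X) (DerivedCategory.Q.obj (pC.obj (rC.obj K))) :=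
      Bij.of_iso ((pF j).mapDerivedCategoryFactors.app (rC.obj K))
        (bij_pF j (DerivedCategory.Q.obj (rC.obj K)))
    -- vanishing of the direct image
    have hvanB : ∀ n, ∀ V' ∈ d, Van V'.1 ((pC.obj (rC.obj K)).X n).obj := fun n V' hV' =>
      van_pF j V'.1 ((rF j).obj (K.X n)) (K.X n).obj ((rTildeIso j).app (K.X n)).symm (hK n V' hV')
    -- the functor "restrict to an open" on modules in degree `n`
    have hker : ∀ n, ∀ V' ∈ insert V d, Van V'.1 ((kernel η).X n).obj := by
      intro n V' hV'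
      haveI : IsAffineHom (fs X V') := isAffineHom_fromSpec X V'.2 hdiag
      haveI := Groth.Agent.Lib.DerivedOX.Exists.hasRpush (fs X V')
      rw [← opensRange_fs X V']
      rw [← isZero_rF_iff]
      let E := HomologicalComplex.eval (Qc X) (ComplexShape.up ℤ) n ⋙ rF (fs X V')
      change IsZero (E.obj (kernel η))
      haveI : Mono (E.map (kernel.ι η)) := inferInstance
      rcases Finset.mem_insert.1 hV' with rfl | hmem
      · haveI : IsIso (E.map η) := by
          change IsIso ((rF j).map ((rpAdj j).unit.app (K.X n)))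
          haveI : IsIso ((rF j).map ((rpAdj j).unit.app (K.X n)) ≫
              (rpAdj j).counit.app ((rF j).obj (K.X n))) :=
            (congrArg (fun φ => IsIso φ) ((rpAdj j).left_triangle_components (K.X n))).mpr (IsIso.id _)
          exact IsIso.of_isIso_comp_right _ ((rpAdj j).counit.app ((rF j).obj (K.X n)))
        have h0 : E.map (kernel.ι η) = 0 := by
          rw [← cancel_mono (E.map η), ← E.map_comp, kernel.condition, E.map_zero, zero_comp]
        exact IsZero.of_mono_eq_zero _ h0
      · have hz : IsZero (E.obj K) := by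
          change IsZero ((rF (fs X V')).obj (K.X n))
          rw [isZero_rF_iff, opensRange_fs X V']
          exact hK n V' hmem
        exact hz.of_mono (E.map (kernel.ι η))
    have hcok : ∀ n, ∀ V' ∈ insert V d, Van V'.1 ((cokernel η).X n).obj := by
      intro n V' hV'
      haveI : IsAffineHom (fs X V') := isAffineHom_fromSpec X V'.2 hdiag
      haveI := Groth.Agent.Lib.DerivedOX.Exists.hasRpush (fs X V')
      rw [← opensRange_fs X V']
      rw [← isZero_rF_iff]
      let E := HomologicalComplex.eval (Qc X) (ComplexShape.up ℤ) n ⋙ rF (fs X V')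
      change IsZero (E.obj (cokernel η))
      haveI : Epi (E.map (cokernel.π η)) := inferInstance
      rcases Finset.mem_insert.1 hV' with rfl | hmem
      · haveI : IsIso (E.map η) := by
          change IsIso ((rF j).map ((rpAdj j).unit.app (K.X n)))
          haveI : IsIso ((rF j).map ((rpAdj j).unit.app (K.X n)) ≫
              (rpAdj j).counit.app ((rF j).obj (K.X n))) :=
            (congrArg (fun φ => IsIso φ) ((rpAdj j).left_triangle_components (K.X n))).mpr (IsIso.id _)
          exact IsIso.of_isIso_comp_right _ ((rpAdj j).counit.app ((rF j).obj (K.X n)))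
        have h0 : E.map (cokernel.π η) = 0 := by
          rw [← cancel_epi (E.map η), ← E.map_comp, cokernel.condition, E.map_zero, comp_zero]
        exact IsZero.of_epi_eq_zero _ h0
      · have hz : IsZero (E.obj (pC.obj (rC.obj K))) := by
          change IsZero ((rF (fs X V')).obj ((pC.obj (rC.obj K)).X n))
          rw [isZero_rF_iff, opensRange_fs X V']
          exact hvanB n V' hmem
        exact hz.of_epi (E.map (cokernel.π η))
    let S₁ : ShortComplex (CochainComplex (Qc X) ℤ) :=
      ShortComplex.mk (kernel.ι η) (Abelian.factorThruImage η) (by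
        rw [← cancel_mono (Abelian.image.ι η), Category.assoc, Abelian.image.fac, kernel.condition,
          zero_comp])
    let S₂ : ShortComplex (CochainComplex (Qc X) ℤ) :=
      ShortComplex.mk (kernel.ι (cokernel.π η)) (cokernel.π η) (kernel.condition _)
    have hS₁ : S₁.ShortExact :=
      { exact := ShortComplex.exact_of_f_is_kernel _
          (isKernelOfComp (f := Abelian.factorThruImage η) (Abelian.image.ι η) η
            (kernelIsKernel η) _ (Abelian.image.fac η))
        mono_f := inferInstanceAs (Mono (kernel.ι η))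
        epi_g := inferInstanceAs (Epi (Abelian.factorThruImage η)) }
    have hS₂ : S₂.ShortExact :=
      { exact := ShortComplex.exact_of_f_is_kernel S₂ (kernelIsKernel (cokernel.π η))
        mono_f := inferInstanceAs (Mono (kernel.ι (cokernel.π η)))
        epi_g := inferInstanceAs (Epi (cokernel.π η)) }
    have hI : Bij (ΦX X) (DerivedCategory.Q.obj (Abelian.image η)) :=
      Bij.ext₁ _ (DerivedCategory.triangleOfSES_distinguished hS₂) hB (ih _ hd' _ hcok)
    exact Bij.ext₂ _ (DerivedCategory.triangleOfSES_distinguished hS₁) (ih _ hd' _ hker) hI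

include hdiag in
theorem full_faithful [CompactSpace X] : (ΦX X).Full ∧ (ΦX X).Faithful := by
  classical
  obtain ⟨s, hs⟩ : ∃ s : Finset X.affineOpens, (⊤ : X.Opens) ≤ ⨆ V ∈ s, V.1 := by
    obtain ⟨s, hs⟩ := isCompact_univ.elim_finite_subcover (fun V : X.affineOpens => (V.1 : Set X))
      (fun V => V.1.isOpen) (by
        intro x _
        obtain ⟨W, hW, hx, -⟩ := exists_isAffineOpen_mem_and_subset (TopologicalSpace.Opens.mem_top x)
        exact Set.mem_iUnion.2 ⟨⟨W, hW⟩, hx⟩)
    refine ⟨s, fun x _ => ?_⟩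
    obtain ⟨V, hV⟩ := Set.mem_iUnion.1 (hs (Set.mem_univ x))
    obtain ⟨hVs, hxV⟩ := Set.mem_iUnion.1 hV
    exact TopologicalSpace.Opens.mem_iSup.2 ⟨V, TopologicalSpace.Opens.mem_iSup.2 ⟨hVs, hxV⟩⟩
  have h : ∀ N, Bij (ΦX X) N := fun N =>
    Bij.of_iso (DerivedCategory.Q.objObjPreimageIso N)
      (bij_of_van X hdiag s s hs ∅ (Finset.empty_union s) _ (fun _ _ hV => absurd hV (Finset.notMem_empty _)))
  exact ⟨⟨fun {M N} g => (h N M).2 g⟩, ⟨fun {M N} _ _ hab => (h N M).1 hab⟩⟩

section EssImage

open Groth.Agent.Lib.DerivedOX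
open scoped ZeroObject

lemma isZero_restrictD_iff {U : Scheme.{u}} (j : U ⟶ X) [IsOpenImmersion j] (K : DCoh.D X) :
    IsZero ((DCoh.restrictD j).obj K) ↔ ∀ i, Van j.opensRange (DCoh.HD K i) := by
  constructor
  · intro h i W hW
    have h1 : IsZero ((DCoh.HD K i).restrict j) :=
      ((DerivedCategory.homologyFunctor U.Modules i).map_isZero h).of_iso
        (Groth.Agent.Lib.Perfect.Coherent.homologyIso j K i).symm
    have h2 := subsingleton_of_isZero h1 (j ⁻¹ᵁ W)
    have e : j ''ᵁ j ⁻¹ᵁ W = W := by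
      rw [Scheme.Hom.image_preimage_eq_opensRange_inf, inf_eq_right]
      exact hW
    have h3 : Subsingleton Γ(DCoh.HD K i, j ''ᵁ j ⁻¹ᵁ W) := h2
    rwa [e] at h3
  · intro h
    refine OpenSupport.isZero_of_homology _ fun i => ?_
    refine IsZero.of_iso ?_ (Groth.Agent.Lib.Perfect.Coherent.homologyIso j K i)
    refine isZero_of_subsingleton _ fun W => ?_
    exact h i (j ''ᵁ W) (Scheme.Hom.image_le_opensRange _ _)

include hdiag in
set_option maxHeartbeats 1000000 in
/-- Devissage for objects of `D_QCoh`. -/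
theorem mem_essImage_of_van [DecidableEq X.affineOpens] [(ΦX X).Full] [(ΦX X).Faithful]
    (s t : Finset X.affineOpens) (hs : (⊤ : X.Opens) ≤ ⨆ V ∈ s, V.1) :
    ∀ d : Finset X.affineOpens, d ∪ t = s → ∀ K : DCoh.D X, DCoh.IsQCohD K →
      (∀ i, ∀ V ∈ d, Van V.1 (DCoh.HD K i)) → (ΦX X).essImage K := by
  induction t using Finset.induction with
  | empty =>
    intro d hd K _ hK
    rw [Finset.union_empty] at hd
    subst hd
    have hz : IsZero K := OpenSupport.isZero_of_homology K fun i => isZero_of_van X hs (hK i)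
    exact ⟨0, ⟨((ΦX X).map_isZero (isZero_zero _)).iso hz⟩⟩
  | insert V t _ ih =>
    intro d hd K hKq hK
    have hd' : insert V d ∪ t = s := by
      rw [← hd, Finset.insert_union, Finset.union_insert]
    let j := fs X V
    haveI : IsOpenImmersion j := isOpenImmersion_fs X V
    haveI : IsAffineHom j := isAffineHom_fromSpec X V.2 hdiag
    haveI := Groth.Agent.Lib.DerivedOX.Exists.hasRpush j
    haveI := OpenImm.isIso_restrictPushAdj_counit j
    haveI : IsIso (Groth.Agent.H88.Hom.DerivedFF.adjD (rpAdj j)).counit :=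
      Groth.Agent.H88.Hom.DerivedFF.isIso_counit (rpAdj j) inferInstance
    have hq : DCoh.IsQCohD ((DCoh.restrictD j).obj K) := QCohLocal.isQCohD_restrictD j hKq
    obtain ⟨N, ⟨eN⟩⟩ := TildeEquiv.exists_preimage Γ(X, V.1) _ hq
    let R := (DCoh.Rpush j).obj ((DCoh.restrictD j).obj K)
    let η : K ⟶ R := (OpenImm.restrictPushAdj j).unit.app K
    obtain ⟨W, ⟨eW⟩⟩ := exists_Rpush_iso j N
    let eWN : W ≅ (DCoh.restrictD j).obj K :=
      (asIso ((OpenImm.restrictPushAdj j).counit.app W)).symm ≪≫
        (DCoh.restrictD j).mapIso eW.symm ≪≫ (θIso j).app ((pF j).mapDerivedCategory.obj N) ≪≫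
        (DCoh.tildeD Γ(X, V.1)).mapIso
          (asIso ((Groth.Agent.H88.Hom.DerivedFF.adjD (rpAdj j)).counit.app N)) ≪≫ eN
    let eR : (ΦX X).obj ((pF j).mapDerivedCategory.obj N) ≅ R :=
      eW ≪≫ (DCoh.Rpush j).mapIso eWN
    have hR : (ΦX X).essImage R := ⟨_, ⟨eR⟩⟩
    obtain ⟨C, g, h, hT⟩ := distinguished_cocone_triangle η
    have hRq : DCoh.IsQCohD R := RpushQCoh.isQCohD_Rpush j _ hq
    have hCq : DCoh.IsQCohD C := TildeEquiv.isQCohD_mor₃ _ hT hKq hRq
    -- vanishing of the direct image
    have hvanR : ∀ V' ∈ d, IsZero ((DCoh.restrictD (fs X V')).obj R) := by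
      intro V' hV'
      haveI : IsAffineHom (fs X V') := isAffineHom_fromSpec X V'.2 hdiag
      haveI := Groth.Agent.Lib.DerivedOX.Exists.hasRpush (fs X V')
      obtain ⟨E, ⟨eE⟩⟩ : ∃ E, Nonempty (DerivedCategory.Q.obj E ≅ N) :=
        ⟨_, ⟨DerivedCategory.Q.objObjPreimageIso N⟩⟩
      let G := pF j ⋙ rF (fs X V')
      haveI : PreservesFiniteLimits G := comp_preservesFiniteLimits _ _
      haveI : PreservesFiniteColimits G := comp_preservesFiniteColimits _ _
      have hG : ∀ i, IsZero (G.obj (E.homology i)) := fun i => by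
        change IsZero ((rF (fs X V')).obj ((pF j).obj (E.homology i)))
        rw [isZero_rF_iff, opensRange_fs X V']
        refine van_pF j V'.1 (E.homology i) (DCoh.HD K i) ?_ (hK i V' hV')
        exact ((E.sc i).mapHomologyIso (tilde.functor Γ(X, V.1))).symm ≪≫
          ((DerivedCategory.homologyFunctorFactors (Spec Γ(X, V.1)).Modules i).app
            (((tilde.functor Γ(X, V.1)).mapHomologicalComplex (ComplexShape.up ℤ)).obj E)).symm ≪≫
          (DerivedCategory.homologyFunctor (Spec Γ(X, V.1)).Modules i).mapIso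
            (((tilde.functor Γ(X, V.1)).mapDerivedCategoryFactors.app E).symm ≪≫
              (DCoh.tildeD Γ(X, V.1)).mapIso eE ≪≫ eN) ≪≫
          Groth.Agent.Lib.Perfect.Coherent.homologyIso j K i
      have hz : IsZero ((rF (fs X V')).mapDerivedCategory.obj ((pF j).mapDerivedCategory.obj N)) := by
        refine OpenSupport.isZero_of_homology _ fun i => ?_
        exact IsZero.of_iso (hG i)
          ((DerivedCategory.homologyFunctor _ i).mapIso
              ((rF (fs X V')).mapDerivedCategory.mapIso
                  ((pF j).mapDerivedCategory.mapIso eE.symm ≪≫ (pF j).mapDerivedCategoryFactors.app E) ≪≫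
                (rF (fs X V')).mapDerivedCategoryFactors.app _) ≪≫
            (DerivedCategory.homologyFunctorFactors _ i).app _ ≪≫ (E.sc i).mapHomologyIso G)
      exact ((DCoh.tildeD Γ(X, V'.1)).map_isZero hz).of_iso
        ((DCoh.restrictD (fs X V')).mapIso eR.symm ≪≫ (θIso (fs X V')).app _)
    have hC : ∀ i, ∀ V' ∈ insert V d, Van V'.1 (DCoh.HD C i) := by
      intro i V' hV'
      rw [← opensRange_fs X V']
      refine (isZero_restrictD_iff X (fs X V') C).1 ?_ i
      let T' := (DCoh.restrictD (fs X V')).mapTriangle.obj (Triangle.mk η g h)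
      have hT' : T' ∈ distTriang _ := (DCoh.restrictD (fs X V')).map_distinguished _ hT
      change IsZero T'.obj₃
      rw [Triangle.isZero₃_iff_isIso₁ T' hT']
      change IsIso ((DCoh.restrictD (fs X V')).map η)
      rcases Finset.mem_insert.1 hV' with rfl | hmem
      · haveI : IsIso ((DCoh.restrictD j).map η ≫
            (OpenImm.restrictPushAdj j).counit.app ((DCoh.restrictD j).obj K)) :=
          (congrArg (fun φ => IsIso φ) ((OpenImm.restrictPushAdj j).left_triangle_components K)).mpr
            (IsIso.id _)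
        exact IsIso.of_isIso_comp_right _
          ((OpenImm.restrictPushAdj j).counit.app ((DCoh.restrictD j).obj K))
      · have h1 : IsZero ((DCoh.restrictD (fs X V')).obj K) :=
          (isZero_restrictD_iff X (fs X V') K).2 fun i => by
            rw [opensRange_fs X V']
            exact hK i V' hmem
        exact h1.isIso (hvanR V' hmem) _
    exact mem_essImage_ext₁ _ hT hR (ih _ hd' C hCq hC)

end EssImage

section Final

lemma exists_finite_cover [CompactSpace X] :
    ∃ s : Finset X.affineOpens, (⊤ : X.Opens) ≤ ⨆ V ∈ s, V.1 := by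
  obtain ⟨s, hs⟩ := isCompact_univ.elim_finite_subcover (fun V : X.affineOpens => (V.1 : Set X))
    (fun V => V.1.isOpen) (by
      intro x _
      obtain ⟨W, hW, hx, -⟩ := exists_isAffineOpen_mem_and_subset (TopologicalSpace.Opens.mem_top x)
      exact Set.mem_iUnion.2 ⟨⟨W, hW⟩, hx⟩)
  refine ⟨s, fun x _ => ?_⟩
  obtain ⟨V, hV⟩ := Set.mem_iUnion.1 (hs (Set.mem_univ x))
  obtain ⟨hVs, hxV⟩ := Set.mem_iUnion.1 hV
  exact TopologicalSpace.Opens.mem_iSup.2 ⟨V, TopologicalSpace.Opens.mem_iSup.2 ⟨hVs, hxV⟩⟩

theorem isQCohD_obj (M : DerivedCategory (Qc X)) : DCoh.IsQCohD ((ΦX X).obj M) := fun i => by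
  obtain ⟨E, ⟨e⟩⟩ : ∃ E, Nonempty (DerivedCategory.Q.obj E ≅ M) :=
    ⟨_, ⟨DerivedCategory.Q.objObjPreimageIso M⟩⟩
  let e' : (incl X).obj (E.homology i) ≅ DCoh.HD ((ΦX X).obj M) i :=
    ((E.sc i).mapHomologyIso (incl X)).symm ≪≫
      ((DerivedCategory.homologyFunctorFactors X.Modules i).app
        (((incl X).mapHomologicalComplex (ComplexShape.up ℤ)).obj E)).symm ≪≫
      (DerivedCategory.homologyFunctor X.Modules i).mapIso
        (((incl X).mapDerivedCategoryFactors.app E).symm ≪≫ (ΦX X).mapIso e)
  exact (Groth.Agent.Lib.WayOut.Scheme.qc X).prop_of_iso e' (E.homology i).property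

include hdiag in
theorem main [CompactSpace X] : (ΦX X).Full ∧ (ΦX X).Faithful ∧
    ∀ K : DCoh.D X, DCoh.IsQCohD K ↔ ∃ M, Nonempty ((ΦX X).obj M ≅ K) := by
  classical
  obtain ⟨hfull, hfaith⟩ := full_faithful X hdiag
  refine ⟨hfull, hfaith, fun K => ⟨fun hK => ?_, ?_⟩⟩
  · obtain ⟨s, hs⟩ := exists_finite_cover X
    haveI := hfull
    haveI := hfaith
    exact mem_essImage_of_van X hdiag s s hs ∅ (Finset.empty_union s) K hK
      (fun _ _ hV => absurd hV (Finset.notMem_empty _))
  · rintro ⟨M, ⟨e⟩⟩
    exact fun i => (Groth.Agent.Lib.WayOut.Scheme.qc X).prop_of_iso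
      ((DerivedCategory.homologyFunctor X.Modules i).mapIso e) (isQCohD_obj X M i)

end Final

end Groth.Agent.H83.DQCohEquiv
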