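import Mathlib
import Groth.Agent.H83.DQCohEquiv.Main
import Groth.Agent.Lib.DerivedOX.RestrictRpush
import Groth.Agent.Lib.DerivedOX.RpushAcyclic
import Groth.Agent.Lib.InjMod.Flasque

/-!
# `D(QCoh X) ≅ D_QCoh(O_X)` for Noetherian `X`
-/

set_option autoImplicit false
set_option linter.style.haveILetI false
set_option linter.unusedSectionVars false

universe u

open CategoryTheory CategoryTheory.Limits AlgebraicGeometry Opposite CategoryTheory.Pretriangulated

attribute [local instance] HasDerivedCategory.standard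

namespace Groth.Agent.H83.DQCohEquiv

open Groth.Agent.Lib.DerivedOX Groth.Agent.Lib.DerCat

section Vanish

variable {X U : Scheme.{u}}

lemma isZero_restrictD_iff' {X U : Scheme.{u}} (j : U ⟶ X) [IsOpenImmersion j] (K : DCoh.D X) :
    IsZero ((DCoh.restrictD j).obj K) ↔ ∀ i, Van j.opensRange (DCoh.HD K i) := by
  constructor
  · intro h i W hW
    have h1 : IsZero ((DCoh.HD K i).restrict j) :=
      ((DerivedCategory.homologyFunctor U.Modules i).map_isZero h).of_iso
        (Groth.Agent.Lib.Perfect.Coherent.homologyIso j K i).symm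
    have h2 := subsingleton_of_isZero h1 (j ⁻¹ᵁ W)
    have e : j ''ᵁ j ⁻¹ᵁ W = W := by
      rw [Scheme.Hom.image_preimage_eq_opensRange_inf, inf_eq_right]
      exact hW
    have h3 : Subsingleton Γ(DCoh.HD K i, j ''ᵁ j ⁻¹ᵁ W) := h2
    rwa [e] at h3
  · intro h
    refine OpenSupport.isZero_of_homology _ fun i => ?_
    refine IsZero.of_iso ?_ (Groth.Agent.Lib.Perfect.Coherent.homologyIso j K i)
    refine isZero_of_subsingleton _ fun W => ?_
    exact h i (j ''ᵁ W) (Scheme.Hom.image_le_opensRange _ _)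


lemma van_of_iso' {Y : Scheme.{u}} {V : Y.Opens} {M N : Y.Modules} (e : M ≅ N) (h : Van V M) :
    Van V N := fun W hW => by
  haveI : Subsingleton (((Scheme.Modules.toPresheaf Y).obj M).obj (op W)) := h W hW
  exact (((Scheme.Modules.toPresheaf Y).mapIso e).app (op W)).addCommGroupIsoToAddEquiv.symm.toEquiv.subsingleton

/-- `Rj_*` of a restriction vanishes where the object vanishes. -/
theorem isZero_restrictD_Rpush_restrictD (j : U ⟶ X) [IsOpenImmersion j] [DCoh.HasRpush j]
    (V : X.Opens) (K : DCoh.D X) (hK : ∀ i, Van V (DCoh.HD K i)) :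
    IsZero ((DCoh.restrictD V.ι).obj ((DCoh.Rpush j).obj ((DCoh.restrictD j).obj K))) := by
  haveI := Exists.hasRpush (j ∣_ V)
  refine IsZero.of_iso (((DCoh.Rpush (j ∣_ V))).map_isZero ?_)
    ((RestrictRpush.restrictD_Rpush_iso j V).app _)
  refine (isZero_restrictD_iff' (j ⁻¹ᵁ V).ι _).2 fun i W hW => ?_
  rw [Scheme.Opens.opensRange_ι] at hW
  have h := (Groth.Agent.Lib.Perfect.Coherent.homologyIso j K i)
  refine (van_of_iso' h.symm (fun W' hW' => ?_) : Van (j ⁻¹ᵁ V) _) W hW
  refine hK i (j ''ᵁ W') (le_trans (j.image_mono hW') ?_)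
  rw [Scheme.Hom.image_preimage_eq_opensRange_inf]
  exact inf_le_right

end Vanish

variable {X : Scheme.{u}} {R : CommRingCat.{u}} (j : Spec R ⟶ X) [IsOpenImmersion j] [QuasiCompact j]
  [ObjectProperty.ContainsZero (qcP X)] [ObjectProperty.IsClosedUnderKernels (qcP X)]
  [ObjectProperty.IsClosedUnderCokernels (qcP X)] [ObjectProperty.IsClosedUnderFiniteProducts (qcP X)]
  [PreservesFiniteLimits (incl X)] [PreservesFiniteColimits (incl X)]
  [IsNoetherianRing R] [DCoh.HasRpush j]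

/-- The right derived functor of `pF`. -/
noncomputable abbrev RpF : DerivedCategory (ModuleCat.{u} R) ⥤ DerivedCategory (Qc X) :=
  RightDerived.resFunctor (ModuleCat.{u} R) ⋙ (pF j).mapHomotopyCategory (ComplexShape.up ℤ) ⋙
    DerivedCategory.Qh

/-- The derived adjunction. -/
noncomputable def rpAdjD : (rF j).mapDerivedCategory ⊣ RpF j := DerAdj.derivedAdj (rpAdj j)

instance isIso_rpAdjD_counit : IsIso (rpAdjD j).counit := by
  have hε : ∀ d, IsIso ((RightDerived.resAdj (ModuleCat.{u} R)).counit.app d) := fun d =>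
    RestrictRpush.isIso_resAdj_counit d
  haveI : ∀ Y, IsIso ((rpAdjD j).counit.app Y) := fun Y =>
    DerAdj.isIso_derivedAdj_counit (rpAdj j) hε Y
  exact NatIso.isIso_of_isIso_app _

/-- `Φ (RpF N)` is a derived direct image. -/
theorem exists_Rpush_iso' (N : DerivedCategory (ModuleCat.{u} R)) :
    ∃ W : DCoh.D (Spec R), Nonempty ((ΦX X).obj ((RpF j).obj N) ≅ (DCoh.Rpush j).obj W) := by
  obtain ⟨I, f, hI, hf, -, hinj⟩ :=
    KInjExists.exists_kInjective_resolution (DerivedCategory.Q.objPreimage N)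
  haveI := hI
  haveI := hf
  let eI : DerivedCategory.Qh.obj ((HomotopyCategory.quotient (ModuleCat.{u} R) (.up ℤ)).obj I) ≅ N :=
    (DerivedCategory.quotientCompQhIso (ModuleCat.{u} R)).app I ≪≫
      (asIso (DerivedCategory.Q.map f)).symm ≪≫ DerivedCategory.Q.objObjPreimageIso N
  haveI := RightDerived.isIso_unit_of_isKInjective (A := ModuleCat.{u} R) I
  let eres : (HomotopyCategory.quotient (ModuleCat.{u} R) (.up ℤ)).obj I ≅
      (RightDerived.resFunctor (ModuleCat.{u} R)).obj N :=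
    (@asIso _ _ _ _ _ (RightDerived.isIso_unit_of_isKInjective (A := ModuleCat.{u} R) I)) ≪≫
      (RightDerived.resFunctor (ModuleCat.{u} R)).mapIso eI
  let tE := ((tilde.functor R).mapHomologicalComplex (ComplexShape.up ℤ)).obj I
  have hac : ∀ (n : ℤ) (k : ℕ), 0 < k →
      IsZero (((Scheme.Modules.pushforward j).rightDerived k).obj (tE.X n)) := by
    intro n k hk
    obtain ⟨m, rfl⟩ : ∃ m, k = m + 1 := ⟨k - 1, by omega⟩
    haveI : Injective (tilde (I.X n)) :=
      Groth.Agent.Lib.InjMod.injective_tilde R (I.X n)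
        (by haveI := hinj n; exact Module.injective_module_of_injective_object R (I.X n))
    exact Functor.isZero_rightDerived_obj_injective_succ _ m (tilde (I.X n))
  have := RpushAcyclic.isIso_unit_of_acyclic j tE
    (fun n => (inferInstance : (tilde (I.X n)).IsQuasicoherent)) hac
  refine ⟨DerivedCategory.Qh.obj ((HomotopyCategory.quotient _ _).obj tE), ⟨?_⟩⟩
  let e1 : ((incl X).mapHomologicalComplex (ComplexShape.up ℤ)).obj
      (((pF j).mapHomologicalComplex (ComplexShape.up ℤ)).obj I) ≅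
      ((Scheme.Modules.pushforward j).mapHomologicalComplex (ComplexShape.up ℤ)).obj tE :=
    HomologicalComplex.Hom.isoOfComponents (fun n => (pFInclIso j).app (I.X n))
      (fun a b _ => ((pFInclIso j).hom.naturality (I.d a b)).symm)
  exact (ΦX X).mapIso (DerivedCategory.Qh.mapIso
      (((pF j).mapHomotopyCategory (ComplexShape.up ℤ)).mapIso eres.symm ≪≫
        ((pF j).mapHomotopyCategoryFactors (ComplexShape.up ℤ)).app I) ≪≫
      (DerivedCategory.quotientCompQhIso (Qc X)).app _) ≪≫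
    (incl X).mapDerivedCategoryFactors.app _ ≪≫ DerivedCategory.Q.mapIso e1 ≪≫
    ((DerivedCategory.quotientCompQhIso X.Modules).app _).symm ≪≫
    DerivedCategory.Qh.mapIso
      (((Scheme.Modules.pushforward j).mapHomotopyCategoryFactors (ComplexShape.up ℤ)).app tE).symm ≪≫
    asIso (((DCoh.pushKh j).totalRightDerivedUnit DerivedCategory.Qh
      (HomotopyCategory.quasiIso (Spec R).Modules (ComplexShape.up ℤ))).app
      ((HomotopyCategory.quotient (Spec R).Modules (ComplexShape.up ℤ)).obj tE))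

/-- Bijectivity at derived direct images. -/
theorem bij_RpF (N : DerivedCategory (ModuleCat.{u} R)) : Bij (ΦX X) ((RpF j).obj N) := fun M => by
  haveI := OpenImm.isIso_restrictPushAdj_counit j
  haveI := TildeEquiv.full R
  haveI := TildeEquiv.faithful R
  obtain ⟨W, ⟨e⟩⟩ := exists_Rpush_iso' j N
  have hres := bij_of_adjunction (OpenImm.restrictPushAdj j) e ((ΦX X).obj M)
  have hr := bij_of_adjunction (rpAdjD j) (Iso.refl ((RpF j).obj N)) M
  have htot : Function.Bijective fun f : M ⟶ (RpF j).obj N =>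
      (DCoh.restrictD j).map ((ΦX X).map f) := by
    have h : (fun f : M ⟶ (RpF j).obj N => (DCoh.restrictD j).map ((ΦX X).map f)) =
        (Iso.homCongr ((θIso j).symm.app M) ((θIso j).symm.app _)) ∘
          (fun g => (DCoh.tildeD R).map g) ∘ (fun f => (rF j).mapDerivedCategory.map f) := by
      funext f
      simp only [Function.comp, Iso.homCongr_apply, Iso.app_hom, Iso.app_inv, Iso.symm_hom, Iso.symm_inv]
      exact (NatIso.naturality_2 (θIso j) f).symm
    rw [h]
    exact (Equiv.bijective _).comp ((Functor.FullyFaithful.ofFullyFaithful _).map_bijective _ _ |>.comp hr)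
  exact ⟨fun a b hab => htot.1 (congrArg (DCoh.restrictD j).map hab), fun g => by
    obtain ⟨f, hf⟩ := htot.2 ((DCoh.restrictD j).map g)
    exact ⟨f, hres.1 hf⟩⟩

/-- `Φ (RpF N) ≅ Rj_*(N~)`. -/
theorem exists_iso_Rpush_tilde (N : DerivedCategory (ModuleCat.{u} R)) :
    Nonempty ((ΦX X).obj ((RpF j).obj N) ≅ (DCoh.Rpush j).obj ((DCoh.tildeD R).obj N)) := by
  haveI := OpenImm.isIso_restrictPushAdj_counit j
  obtain ⟨W, ⟨eW⟩⟩ := exists_Rpush_iso' j N
  exact ⟨eW ≪≫ (DCoh.Rpush j).mapIso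
    ((asIso ((OpenImm.restrictPushAdj j).counit.app W)).symm ≪≫
      (DCoh.restrictD j).mapIso eW.symm ≪≫ (θIso j).app ((RpF j).obj N) ≪≫
      (DCoh.tildeD R).mapIso (asIso ((rpAdjD j).counit.app N)))⟩

/-- Triangle lemma: the cone is killed when the map becomes invertible. -/
lemma isZero_obj_of_isIso_map {C₁ : Type*} [Category C₁] [HasZeroObject C₁] [HasShift C₁ ℤ]
    [Preadditive C₁] [∀ n : ℤ, (shiftFunctor C₁ n).Additive] [Pretriangulated C₁]
    {C₂ : Type*} [Category C₂] [HasZeroObject C₂] [HasShift C₂ ℤ]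
    [Preadditive C₂] [∀ n : ℤ, (shiftFunctor C₂ n).Additive] [Pretriangulated C₂]
    (F : C₁ ⥤ C₂) [F.CommShift ℤ] [F.IsTriangulated] {A B E : C₁} {f : A ⟶ B} {g : B ⟶ E}
    {h : E ⟶ A⟦(1 : ℤ)⟧} (hT : Triangle.mk f g h ∈ distTriang C₁) (hf : IsIso (F.map f)) :
    IsZero (F.obj E) :=
  (Triangle.isZero₃_iff_isIso₁ _ (F.map_distinguished _ hT)).2 hf

/-- Composite version of `isZero_obj_of_isIso_map`. -/
lemma isZero_obj_of_isIso_map₂ {C₀ : Type*} [Category C₀] [HasZeroObject C₀] [HasShift C₀ ℤ]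
    [Preadditive C₀] [∀ n : ℤ, (shiftFunctor C₀ n).Additive] [Pretriangulated C₀]
    {C₁ : Type*} [Category C₁] [HasZeroObject C₁] [HasShift C₁ ℤ]
    [Preadditive C₁] [∀ n : ℤ, (shiftFunctor C₁ n).Additive] [Pretriangulated C₁]
    {C₂ : Type*} [Category C₂] [HasZeroObject C₂] [HasShift C₂ ℤ]
    [Preadditive C₂] [∀ n : ℤ, (shiftFunctor C₂ n).Additive] [Pretriangulated C₂]
    (G : C₀ ⥤ C₁) [G.CommShift ℤ] [G.IsTriangulated]
    (F : C₁ ⥤ C₂) [F.CommShift ℤ] [F.IsTriangulated] {A B E : C₀} {f : A ⟶ B} {g : B ⟶ E}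
    {h : E ⟶ A⟦(1 : ℤ)⟧} (hT : Triangle.mk f g h ∈ distTriang C₀)
    (hf : IsIso (F.map (G.map f))) :
    IsZero (F.obj (G.obj E)) :=
  (Triangle.isZero₃_iff_isIso₁ _ (F.map_distinguished _ (G.map_distinguished _ hT))).2 hf

/-- The left adjoint inverts the unit. -/
lemma isIso_map_unit {C₁ : Type*} [Category C₁] {C₂ : Type*} [Category C₂] {L : C₁ ⥤ C₂}
    {G : C₂ ⥤ C₁} (adj : L ⊣ G) (hc : IsIso adj.counit) (X : C₁) :
    IsIso (L.map (adj.unit.app X)) := by
  haveI : IsIso (L.map (adj.unit.app X) ≫ adj.counit.app (L.obj X)) := by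
    rw [adj.left_triangle_components X]
    exact IsIso.id _
  exact IsIso.of_isIso_comp_right _ (adj.counit.app (L.obj X))

/-- Transport along a square of functors. -/
lemma isIso_map_map {C₀ C₁ C₂ C₃ : Type*} [Category C₀] [Category C₁] [Category C₂] [Category C₃]
    {G : C₀ ⥤ C₁} {F : C₁ ⥤ C₂} {H : C₀ ⥤ C₃} {K : C₃ ⥤ C₂} (e : G ⋙ F ≅ H ⋙ K)
    {A B : C₀} (f : A ⟶ B) (hf : IsIso (H.map f)) : IsIso (F.map (G.map f)) :=
  (NatIso.isIso_map_iff e f).2 (inferInstanceAs (IsIso (K.map (H.map f))))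

/-- One step of the devissage for complexes of quasi-coherent modules. -/
theorem step_bij (N : DerivedCategory (Qc X)) :
    ∃ (B C : DerivedCategory (Qc X)) (f : N ⟶ B) (g : B ⟶ C) (h : C ⟶ N⟦(1 : ℤ)⟧),
      Bij (ΦX X) B ∧ Triangle.mk f g h ∈ distTriang (DerivedCategory (Qc X)) ∧
      IsZero ((DCoh.restrictD j).obj ((ΦX X).obj C)) ∧
      ∀ W : X.Opens, (∀ i, Van W (DCoh.HD ((ΦX X).obj N) i)) →
        IsZero ((DCoh.restrictD W.ι).obj ((ΦX X).obj C)) := by
  obtain ⟨eB⟩ := exists_iso_Rpush_tilde j ((rF j).mapDerivedCategory.obj N)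
  obtain ⟨C, g, h, hT⟩ := distinguished_cocone_triangle ((rpAdjD j).unit.app N)
  refine ⟨_, C, _, g, h, bij_RpF j _, hT, ?_, fun W hW => ?_⟩
  · exact isZero_obj_of_isIso_map₂ (ΦX X) (DCoh.restrictD j) hT
      (isIso_map_map (θIso j) _ (isIso_map_unit (rpAdjD j) (isIso_rpAdjD_counit j) N))
  · have h1 : IsZero ((DCoh.restrictD W.ι).obj ((ΦX X).obj N)) :=
      (isZero_restrictD_iff' W.ι _).2 fun i => by
        rw [Scheme.Opens.opensRange_ι]
        exact hW i
    have h2 : IsZero ((DCoh.restrictD W.ι).obj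
        ((ΦX X).obj ((RpF j).obj ((rF j).mapDerivedCategory.obj N)))) :=
      IsZero.of_iso (isZero_restrictD_Rpush_restrictD j W ((ΦX X).obj N) hW)
        ((DCoh.restrictD W.ι).mapIso (eB ≪≫ (DCoh.Rpush j).mapIso ((θIso j).app N).symm))
    exact isZero_obj_of_isIso_map₂ (ΦX X) (DCoh.restrictD W.ι) hT (h1.isIso h2 _)

/-- One step of the devissage for objects of `D_QCoh`. -/
theorem step_ess (K : DCoh.D X) (hKq : DCoh.IsQCohD K) :
    ∃ (B C : DCoh.D X) (f : K ⟶ B) (g : B ⟶ C) (h : C ⟶ K⟦(1 : ℤ)⟧),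
      (ΦX X).essImage B ∧ Triangle.mk f g h ∈ distTriang (DCoh.D X) ∧ DCoh.IsQCohD C ∧
      IsZero ((DCoh.restrictD j).obj C) ∧
      ∀ W : X.Opens, (∀ i, Van W (DCoh.HD K i)) → IsZero ((DCoh.restrictD W.ι).obj C) := by
  haveI := OpenImm.isIso_restrictPushAdj_counit j
  have hq : DCoh.IsQCohD ((DCoh.restrictD j).obj K) := QCohLocal.isQCohD_restrictD j hKq
  obtain ⟨N, ⟨eN⟩⟩ := TildeEquiv.exists_preimage R _ hq
  obtain ⟨eR⟩ := exists_iso_Rpush_tilde j N
  obtain ⟨C, g, h, hT⟩ := distinguished_cocone_triangle ((OpenImm.restrictPushAdj j).unit.app K)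
  refine ⟨_, C, _, g, h, ⟨_, ⟨eR ≪≫ (DCoh.Rpush j).mapIso eN⟩⟩, hT,
    TildeEquiv.isQCohD_mor₃ _ hT hKq (RpushQCoh.isQCohD_Rpush j _ hq), ?_, fun W hW => ?_⟩
  · exact isZero_obj_of_isIso_map (DCoh.restrictD j) hT
      (isIso_map_unit (OpenImm.restrictPushAdj j) inferInstance K)
  · have h1 : IsZero ((DCoh.restrictD W.ι).obj K) :=
      (isZero_restrictD_iff' W.ι _).2 fun i => by
        rw [Scheme.Opens.opensRange_ι]
        exact hW i
    exact isZero_obj_of_isIso_map (DCoh.restrictD W.ι) hT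
      (h1.isIso (isZero_restrictD_Rpush_restrictD j W K hW) _)

section Devissage

variable (X)

lemma isZero_of_isZero_Φ (N : DerivedCategory (Qc X)) (h : IsZero ((ΦX X).obj N)) : IsZero N := by
  obtain ⟨E, ⟨e⟩⟩ : ∃ E, Nonempty (DerivedCategory.Q.obj E ≅ N) :=
    ⟨_, ⟨DerivedCategory.Q.objObjPreimageIso N⟩⟩
  refine IsZero.of_iso ?_ e.symm
  refine OpenSupport.isZero_of_homology _ fun i => ?_
  refine IsZero.of_iso ?_ ((DerivedCategory.homologyFunctorFactors (Qc X) i).app E)
  refine IsZero.of_full_of_faithful_of_isZero (incl X) _ ?_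
  exact IsZero.of_iso
    ((DerivedCategory.homologyFunctor X.Modules i).map_isZero (h.of_iso ((ΦX X).mapIso e)))
    (((E.sc i).mapHomologyIso (incl X)).symm ≪≫
      ((DerivedCategory.homologyFunctorFactors X.Modules i).app
        (((incl X).mapHomologicalComplex (ComplexShape.up ℤ)).obj E)).symm ≪≫
      (DerivedCategory.homologyFunctor X.Modules i).mapIso
        ((incl X).mapDerivedCategoryFactors.app E).symm)

variable [IsNoetherian X]

lemma fs_setting (V : X.affineOpens) : QuasiCompact (fs X V) ∧ IsNoetherianRing Γ(X, V.1) :=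
  ⟨inferInstance, IsLocallyNoetherian.component_noetherian V⟩

set_option maxHeartbeats 1000000 in
theorem bij_of_van' [DecidableEq X.affineOpens] (s t : Finset X.affineOpens)
    (hs : (⊤ : X.Opens) ≤ ⨆ V ∈ s, V.1) :
    ∀ d : Finset X.affineOpens, d ∪ t = s → ∀ N : DerivedCategory (Qc X),
      (∀ i, ∀ V ∈ d, Van V.1 (DCoh.HD ((ΦX X).obj N) i)) → Bij (ΦX X) N := by
  induction t using Finset.induction with
  | empty =>
    intro d hd N hN
    rw [Finset.union_empty] at hd
    subst hd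
    exact Bij.of_isZero (isZero_of_isZero_Φ X N
      (OpenSupport.isZero_of_homology _ fun i => isZero_of_van X hs (hN i)))
  | insert V t _ ih =>
    intro d hd N hN
    have hd' : insert V d ∪ t = s := by
      rw [← hd, Finset.insert_union, Finset.union_insert]
    haveI : IsOpenImmersion (fs X V) := isOpenImmersion_fs X V
    haveI : QuasiCompact (fs X V) := (fs_setting X V).1
    haveI : IsNoetherianRing Γ(X, V.1) := (fs_setting X V).2
    haveI := Groth.Agent.Lib.DerivedOX.Exists.hasRpush (fs X V)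
    obtain ⟨B, C, f, g, h, hB, hT, hCV, hCW⟩ := step_bij (fs X V) N
    have hC : ∀ i, ∀ V' ∈ insert V d, Van V'.1 (DCoh.HD ((ΦX X).obj C) i) := by
      intro i V' hV'
      rcases Finset.mem_insert.1 hV' with hVV | hmem
      · rw [hVV, ← opensRange_fs X V]
        exact (isZero_restrictD_iff' (fs X V) _).1 hCV i
      · rw [← Scheme.Opens.opensRange_ι V'.1]
        exact (isZero_restrictD_iff' V'.1.ι _).1 (hCW V'.1 fun i => hN i V' hmem) i
    exact Bij.ext₁ _ hT hB (ih _ hd' C hC)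

set_option maxHeartbeats 1000000 in
theorem mem_essImage_of_van' [DecidableEq X.affineOpens] [(ΦX X).Full] [(ΦX X).Faithful]
    (s t : Finset X.affineOpens) (hs : (⊤ : X.Opens) ≤ ⨆ V ∈ s, V.1) :
    ∀ d : Finset X.affineOpens, d ∪ t = s → ∀ K : DCoh.D X, DCoh.IsQCohD K →
      (∀ i, ∀ V ∈ d, Van V.1 (DCoh.HD K i)) → (ΦX X).essImage K := by
  induction t using Finset.induction with
  | empty =>
    intro d hd K _ hK
    rw [Finset.union_empty] at hd
    subst hd
    have hz : IsZero K := OpenSupport.isZero_of_homology K fun i => isZero_of_van X hs (hK i)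
    obtain ⟨Z, hZ⟩ := HasZeroObject.zero (C := DerivedCategory (Qc X))
    exact ⟨Z, ⟨((ΦX X).map_isZero hZ).iso hz⟩⟩
  | insert V t _ ih =>
    intro d hd K hKq hK
    have hd' : insert V d ∪ t = s := by
      rw [← hd, Finset.insert_union, Finset.union_insert]
    haveI : IsOpenImmersion (fs X V) := isOpenImmersion_fs X V
    haveI : QuasiCompact (fs X V) := (fs_setting X V).1
    haveI : IsNoetherianRing Γ(X, V.1) := (fs_setting X V).2
    haveI := Groth.Agent.Lib.DerivedOX.Exists.hasRpush (fs X V)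
    obtain ⟨B, C, f, g, h, hB, hT, hCq, hCV, hCW⟩ := step_ess (fs X V) K hKq
    have hC : ∀ i, ∀ V' ∈ insert V d, Van V'.1 (DCoh.HD C i) := by
      intro i V' hV'
      rcases Finset.mem_insert.1 hV' with hVV | hmem
      · rw [hVV, ← opensRange_fs X V]
        exact (isZero_restrictD_iff' (fs X V) _).1 hCV i
      · rw [← Scheme.Opens.opensRange_ι V'.1]
        exact (isZero_restrictD_iff' V'.1.ι _).1 (hCW V'.1 fun i => hK i V' hmem) i
    exact mem_essImage_ext₁ _ hT hB (ih _ hd' C hCq hC)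

theorem main' : (ΦX X).Full ∧ (ΦX X).Faithful ∧
    ∀ K : DCoh.D X, DCoh.IsQCohD K ↔ ∃ M, Nonempty ((ΦX X).obj M ≅ K) := by
  classical
  obtain ⟨s, hs⟩ := exists_finite_cover X
  have h : ∀ N, Bij (ΦX X) N := fun N =>
    bij_of_van' X s s hs ∅ (Finset.empty_union s) N (fun _ _ hV => absurd hV (Finset.notMem_empty _))
  haveI hfull : (ΦX X).Full := ⟨fun {M N} g => (h N M).2 g⟩
  haveI hfaith : (ΦX X).Faithful := ⟨fun {M N} _ _ hab => (h N M).1 hab⟩
  refine ⟨hfull, hfaith, fun K => ⟨fun hK => ?_, ?_⟩⟩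
  · exact mem_essImage_of_van' X s s hs ∅ (Finset.empty_union s) K hK
      (fun _ _ hV => absurd hV (Finset.notMem_empty _))
  · rintro ⟨M, ⟨e⟩⟩
    exact fun i => (Groth.Agent.Lib.WayOut.Scheme.qc X).prop_of_iso
      ((DerivedCategory.homologyFunctor X.Modules i).mapIso e) (isQCohD_obj X M i)

end Devissage

end Groth.Agent.H83.DQCohEquiv
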